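import Groth.Agent.CohLib.CechApply
import Groth.Agent.FiltExtLib.Basic
import Groth.Agent.ToposFinLib.FiltCol
import Groth.Agent.CohLib.OverCoh
import Groth.Prelude.Def_CohCx
import Mathlib

/-!
Cohomology on a site with a class of finite coverings commutes with filtered colimits.
-/

set_option autoImplicit false
set_option backward.isDefEq.respectTransparency false
set_option linter.style.haveILetI false
set_option linter.unusedSectionVars false

universe u

open CategoryTheory CategoryTheory.Limits Opposite Simplicial CohLib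

namespace Groth.Agent.SiteColimLib

variable {C : Type u} [SmallCategory C] {J : GrothendieckTopology C}
  {I : Type u} [SmallCategory I] [IsFiltered I] {D : I ⥤ Sheaf J AddCommGrpCat.{u}} {c : Cocone D}

theorem app_map_comp (V : Cᵒᵖ) {i k l : I} (a : i ⟶ k) (b : k ⟶ l) (s : (D.obj i).obj.obj V) :
    (D.map (a ≫ b)).hom.app V s = (D.map b).hom.app V ((D.map a).hom.app V s) :=
  ConcreteCategory.congr_hom (congrArg (fun φ => φ.hom.app V) (D.map_comp a b)) s

omit [IsFiltered I] in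
theorem app_w (V : Cᵒᵖ) {i k : I} (a : i ⟶ k) (s : (D.obj i).obj.obj V) :
    (c.ι.app k).hom.app V ((D.map a).hom.app V s) = (c.ι.app i).hom.app V s :=
  ConcreteCategory.congr_hom (congrArg (fun φ => φ.hom.app V) (c.w a)) s

theorem exists_sheafifyCocone (hc : IsColimit c) :
    ∃ (E : Cocone (D ⋙ sheafToPresheaf J AddCommGrpCat.{u})) (_ : IsColimit E)
      (e : c.pt.obj ≅ sheafify J E.pt),
      ∀ (i : I) (V : Cᵒᵖ) (t : (D.obj i).obj.obj V), e.hom.app V ((c.ι.app i).hom.app V t) =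
        (toSheafify J E.pt).app V ((E.ι.app i).app V t) := by
  let E := colimit.cocone (D ⋙ sheafToPresheaf J AddCommGrpCat.{u})
  let hE : IsColimit E := colimit.isColimit _
  let e := hc.coconePointUniqueUpToIso (Sheaf.isColimitSheafifyCocone E hE)
  refine ⟨E, hE, (sheafToPresheaf J _).mapIso e, fun i V t => ?_⟩
  have h₁ := hc.comp_coconePointUniqueUpToIso_hom (Sheaf.isColimitSheafifyCocone E hE) i
  refine (ConcreteCategory.congr_hom (NatTrans.congr_app (congrArg (fun m => m.hom) h₁) V) t).trans ?_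
  exact ConcreteCategory.congr_hom (NatTrans.congr_app (Sheaf.sheafifyCocone_ι_app_val E i) V) t

/-- A section which dies in the colimit dies locally at some stage. -/
theorem local_zero (hc : IsColimit c) {i : I} {U : C} (s : (D.obj i).obj.obj (op U))
    (h : (c.ι.app i).hom.app (op U) s = 0) :
    ∃ R ∈ J U, ∀ (V : C) (f : V ⟶ U), R f → ∃ (j : I) (φ : i ⟶ j),
      (D.map φ).hom.app (op V) ((D.obj i).obj.map f.op s) = 0 := by
  obtain ⟨E, hE, e, he⟩ := exists_sheafifyCocone hc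
  have h0 : (toSheafify J E.pt).app (op U) ((E.ι.app i).app (op U) s) =
      (toSheafify J E.pt).app (op U) (0 : E.pt.obj (op U)) := by
    rw [← he, h, map_zero, map_zero]
  refine ⟨_, Presheaf.equalizerSieve_mem J (toSheafify J E.pt) _ _ h0, fun V f hf => ?_⟩
  simp only [Presheaf.equalizerSieve_apply, map_zero] at hf
  have hf' : (E.ι.app i).app (op V) ((D.obj i).obj.map f.op s) = 0 :=
    (NatTrans.naturality_apply (E.ι.app i) f.op s).trans hf
  have hev := isColimitOfPreserves ((evaluation Cᵒᵖ AddCommGrpCat.{u}).obj (op V)) hE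
  obtain ⟨j, a, b, hab⟩ := (Concrete.isColimit_rep_eq_iff_exists
    ((D ⋙ sheafToPresheaf J AddCommGrpCat.{u}) ⋙ (evaluation Cᵒᵖ AddCommGrpCat.{u}).obj (op V)) hev
    ((D.obj i).obj.map f.op s) (0 : (D.obj i).obj.obj (op V))).1 (hf'.trans (map_zero _).symm)
  exact ⟨j, a, hab.trans (map_zero _)⟩

/-- Sections of the colimit come locally from stages. -/
theorem local_lift (hc : IsColimit c) {U : C} (s : c.pt.obj.obj (op U)) :
    ∃ R ∈ J U, ∀ (V : C) (f : V ⟶ U), R f → ∃ (i : I) (t : (D.obj i).obj.obj (op V)),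
      (c.ι.app i).hom.app (op V) t = c.pt.obj.map f.op s := by
  obtain ⟨E, hE, e, he⟩ := exists_sheafifyCocone hc
  refine ⟨_, Presheaf.imageSieve_mem J (toSheafify J E.pt) (U := op U) (e.hom.app (op U) s),
    fun V f hf => ?_⟩
  obtain ⟨x, hx⟩ := hf
  obtain ⟨i, t, ht⟩ := Concrete.isColimit_exists_rep _
    (isColimitOfPreserves ((evaluation Cᵒᵖ AddCommGrpCat.{u}).obj (op V)) hE) x
  refine ⟨i, t, ?_⟩
  have h1 : e.hom.app (op V) ((c.ι.app i).hom.app (op V) t) = e.hom.app (op V) (c.pt.obj.map f.op s) := by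
    rw [he, NatTrans.naturality_apply e.hom f.op s]
    exact (congrArg ((toSheafify J E.pt).app (op V)) ht).trans hx
  exact ((AddCommGrpCat.mono_iff_injective _).1 inferInstance) h1

variable [HasPullbacks C] (B : Set C) (Cov : ∀ (U : C) (ι : Type u), (ι → Over U) → Prop)
  (h1 : ∀ (U : C) (ι : Type u) (Y : ι → Over U), Cov U ι Y → Finite ι ∧ U ∈ B ∧
      famSieve Y ∈ J U ∧ ∀ (p : ℕ) (a : Fin (p + 1) → ι), (∏ᶜ fun k => Y (a k)).left ∈ B)
  (h2 : ∀ U ∈ B, ∀ T ∈ J U, ∃ (ι : Type u) (Y : ι → Over U), Cov U ι Y ∧ ∀ i, T.arrows (Y i).hom)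

omit [IsFiltered I] in
theorem isSheafFor_fam {U : C} {κ : Type u} (Y : κ → Over U) (hY : famSieve Y ∈ J U)
    (F : Sheaf J AddCommGrpCat.{u}) :
    (Presieve.ofArrows (fun k => (Y k).left) (fun k => (Y k).hom)).IsSheafFor
      (F.obj ⋙ forget AddCommGrpCat.{u}) :=
  (Presieve.isSheafFor_iff_generate _).2 ((isSheaf_iff_isSheaf_of_type J _).1
    ((sheafCompose J (forget AddCommGrpCat.{u})).obj F).property _ hY)

omit [IsFiltered I] in
theorem fam_ext {U : C} {κ : Type u} (Y : κ → Over U) (hY : famSieve Y ∈ J U)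
    (F : Sheaf J AddCommGrpCat.{u}) {a b : F.obj.obj (op U)}
    (h : ∀ k, F.obj.map (Y k).hom.op a = F.obj.map (Y k).hom.op b) : a = b := by
  refine (isSheafFor_fam Y hY F).isSeparatedFor.ext fun Z f hf => ?_
  obtain ⟨k⟩ := hf
  exact h k

include h1 h2

/-- A section over a member which dies in the colimit dies at some stage. -/
theorem stage_zero (hc : IsColimit c) {i : I} {U : C} (hU : U ∈ B) (s : (D.obj i).obj.obj (op U))
    (h : (c.ι.app i).hom.app (op U) s = 0) :
    ∃ (j : I) (φ : i ⟶ j), (D.map φ).hom.app (op U) s = 0 := by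
  obtain ⟨R, hR, hR'⟩ := local_zero hc s h
  obtain ⟨κ, Y, hY, hYR⟩ := h2 U hU R hR
  obtain ⟨hκ, -, hcov, -⟩ := h1 U κ Y hY
  obtain ⟨j, φ, hj⟩ := ToposFinLib.exists_common (I := I) (i := i)
    (fun k j φ => (D.map φ).hom.app (op (Y k).left) ((D.obj i).obj.map (Y k).hom.op s) = 0)
    (fun k => hR' _ _ (hYR k))
    (fun k j φ j' ψ hk => by
      dsimp only at hk ⊢
      rw [app_map_comp, hk, map_zero])
  refine ⟨j, φ, fam_ext Y hcov (D.obj j) fun k => ?_⟩
  refine (NatTrans.naturality_apply (D.map φ).hom (Y k).hom.op s).symm.trans ((hj k).trans ?_)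
  exact (map_zero _).symm

/-- A section of the colimit over a member comes from a stage. -/
theorem stage_lift (hc : IsColimit c) {U : C} (hU : U ∈ B) (s : c.pt.obj.obj (op U)) :
    ∃ (i : I) (t : (D.obj i).obj.obj (op U)), (c.ι.app i).hom.app (op U) t = s := by
  classical
  obtain ⟨R, hR, hR'⟩ := local_lift hc s
  obtain ⟨κ, Y, hY, hYR⟩ := h2 U hU R hR
  obtain ⟨hκ, -, hcov, hB⟩ := h1 U κ Y hY
  haveI := Fintype.ofFinite κ
  choose i₀ t₀ ht₀ using fun k => hR' _ _ (hYR k)
  obtain ⟨i, hi⟩ := IsFiltered.sup_objs_exists (Finset.univ.image i₀)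
  let ψ : ∀ k, i₀ k ⟶ i := fun k => (hi (Finset.mem_image_of_mem i₀ (Finset.mem_univ k))).some
  let t : ∀ k, (D.obj i).obj.obj (op (Y k).left) := fun k => (D.map (ψ k)).hom.app _ (t₀ k)
  have ht : ∀ k, (c.ι.app i).hom.app _ (t k) = c.pt.obj.map (Y k).hom.op s := fun k =>
    (app_w _ (ψ k) (t₀ k)).trans (ht₀ k)
  let P : κ × κ → C := fun a => (∏ᶜ fun k => Y (![a.1, a.2] k)).left
  let π₀ : ∀ a : κ × κ, P a ⟶ (Y a.1).left := fun a => (Pi.π (fun k => Y (![a.1, a.2] k)) 0).left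
  let π₁ : ∀ a : κ × κ, P a ⟶ (Y a.2).left := fun a => (Pi.π (fun k => Y (![a.1, a.2] k)) 1).left
  let d : ∀ a : κ × κ, (D.obj i).obj.obj (op (P a)) := fun a =>
    (D.obj i).obj.map (π₀ a).op (t a.1) - (D.obj i).obj.map (π₁ a).op (t a.2)
  have hd : ∀ a, (c.ι.app i).hom.app (op (P a)) (d a) = 0 := fun a => by
    simp only [d, map_sub, sub_eq_zero]
    refine (NatTrans.naturality_apply _ _ _).trans ((congrArg _ (ht a.1)).trans ?_)
    refine Eq.trans ?_ ((congrArg _ (ht a.2)).symm.trans (NatTrans.naturality_apply _ _ _).symm)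
    refine (ConcreteCategory.congr_hom (c.pt.obj.map_comp _ _) s).symm.trans
      (Eq.trans ?_ (ConcreteCategory.congr_hom (c.pt.obj.map_comp _ _) s))
    refine congrArg (fun g => c.pt.obj.map g s) (congrArg Quiver.Hom.op ?_)
    exact (Over.w (Pi.π (fun k => Y (![a.1, a.2] k)) 0)).trans
      (Over.w (Pi.π (fun k => Y (![a.1, a.2] k)) 1)).symm
  obtain ⟨j, φ, hj⟩ := ToposFinLib.exists_common (I := I) (i := i)
    (fun a j φ => (D.map φ).hom.app (op (P a)) (d a) = 0)
    (fun a => stage_zero B Cov h1 h2 hc (hB 1 _) (d a) (hd a))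
    (fun a j φ j' ψ ha => by
      dsimp only at ha ⊢
      rw [app_map_comp, ha, map_zero])
  let x : ∀ k, (D.obj j).obj.obj (op (Y k).left) := fun k => (D.map φ).hom.app _ (t k)
  obtain ⟨T, hT, -⟩ := (Presieve.isSheafFor_arrows_iff _ _).1 (isSheafFor_fam Y hcov (D.obj j)) x (by
    intro k l Z gk gl hg
    let G : Over.mk (gk ≫ (Y k).hom) ⟶ ∏ᶜ fun n => Y (![k, l] n) :=
      Pi.lift (Fin.cases (Over.homMk gk rfl) (Fin.cases (Over.homMk gl hg.symm) (fun n => n.elim0)))
    have e₀ : G.left ≫ π₀ (k, l) = gk := congrArg (fun f : Over.mk (gk ≫ (Y k).hom) ⟶ Y k => f.left) (Pi.lift_π (f := fun n => Y (![k, l] n)) _ 0)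
    have e₁ : G.left ≫ π₁ (k, l) = gl := congrArg (fun f : Over.mk (gk ≫ (Y k).hom) ⟶ Y l => f.left) (Pi.lift_π (f := fun n => Y (![k, l] n)) _ 1)
    have h0 := hj (k, l)
    simp only [d, map_sub, sub_eq_zero, NatTrans.naturality_apply] at h0
    have h0' := congrArg ((D.obj j).obj.map G.left.op) h0
    change (D.obj j).obj.map gk.op (x k) = (D.obj j).obj.map gl.op (x l)
    rw [← e₀, ← e₁, op_comp, op_comp, Functor.map_comp, Functor.map_comp]
    exact h0')
  refine ⟨j, T, fam_ext Y hcov c.pt fun k => ?_⟩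
  refine (NatTrans.naturality_apply _ _ _).symm.trans ((congrArg _ (hT k)).trans ?_)
  exact (app_w _ φ (t k)).trans (ht k)

omit h1 h2 in
/-- Families over a finite formal coproduct of members come from a stage. -/
theorem freeOf_stage_lift {X : C} (E : FormalCoproduct.{u} (Over X)) [Finite E.I]
    (hl : ∀ a (s : c.pt.obj.obj (op (E.obj a).left)), ∃ (i : I) (t : (D.obj i).obj.obj _),
      (c.ι.app i).hom.app _ t = s)
    (x : (freeOf X).obj E ⟶ c.pt.obj) :
    ∃ (i : I) (x' : (freeOf X).obj E ⟶ (D.obj i).obj), x' ≫ (c.ι.app i).hom = x := by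
  classical
  haveI := Fintype.ofFinite E.I
  choose i₀ t₀ ht₀ using fun a => hl a (x.app (op (E.obj a).left) (FreeAbelianGroup.of ⟨a, 𝟙 _⟩))
  obtain ⟨i, hi⟩ := IsFiltered.sup_objs_exists (Finset.univ.image i₀)
  let ψ : ∀ a, i₀ a ⟶ i := fun a => (hi (Finset.mem_image_of_mem i₀ (Finset.mem_univ a))).some
  obtain ⟨x', hx'⟩ := exists_freeOf_desc (D.obj i).obj E fun a => (D.map (ψ a)).hom.app _ (t₀ a)
  refine ⟨i, x', freeOf_hom_ext E _ _ fun a => ?_⟩
  exact (congrArg ((c.ι.app i).hom.app _) (hx' a)).trans ((app_w _ (ψ a) (t₀ a)).trans (ht₀ a))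

omit h1 h2 in
/-- Families over a finite formal coproduct of members which die in the colimit die at a stage. -/
theorem freeOf_stage_zero {X : C} (E : FormalCoproduct.{u} (Over X)) [Finite E.I] {i : I}
    (hz : ∀ a (s : (D.obj i).obj.obj (op (E.obj a).left)), (c.ι.app i).hom.app _ s = 0 →
      ∃ (j : I) (φ : i ⟶ j), (D.map φ).hom.app _ s = 0)
    (x : (freeOf X).obj E ⟶ (D.obj i).obj) (hx : x ≫ (c.ι.app i).hom = 0) :
    ∃ (j : I) (φ : i ⟶ j), x ≫ (D.map φ).hom = 0 := by
  let g : ∀ a, (D.obj i).obj.obj (op (E.obj a).left) :=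
    fun a => x.app (op (E.obj a).left) (FreeAbelianGroup.of ⟨a, 𝟙 _⟩)
  obtain ⟨j, φ, hj⟩ := ToposFinLib.exists_common (I := I) (i := i)
    (fun a j φ => (D.map φ).hom.app _ (g a) = 0)
    (fun a => hz a (g a) (congrArg
      (fun (k : (freeOf X).obj E ⟶ c.pt.obj) => k.app (op (E.obj a).left) (FreeAbelianGroup.of ⟨a, 𝟙 _⟩)) hx))
    (fun a j φ j' ψ ha => by
      dsimp only at ha ⊢
      rw [app_map_comp, ha, map_zero])
  exact ⟨j, φ, freeOf_hom_ext E _ _ hj⟩

/-- A filtered colimit of Čech acyclic sheaves is Čech acyclic for the finite coverings. -/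
theorem homExact_colim (hc : IsColimit c) {U : C} {κ : Type u} (Y : κ → Over U) (hY : Cov U κ Y) (q : ℕ)
    (hD : ∀ i, HomExact (cechChain Y) (D.obj i).obj q) : HomExact (cechChain Y) c.pt.obj q := by
  obtain ⟨hκ, -, -, hB⟩ := h1 U κ Y hY
  intro x hx
  haveI : Finite ((famCop Y).cech.obj (op ⦋q + 1⦌)).I := inferInstanceAs (Finite (Fin (q + 2) → κ))
  haveI : Finite ((famCop Y).cech.obj (op ⦋q + 2⦌)).I := inferInstanceAs (Finite (Fin (q + 3) → κ))
  obtain ⟨i, x', hx'⟩ := freeOf_stage_lift ((famCop Y).cech.obj (op ⦋q + 1⦌))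
    (fun a s => stage_lift B Cov h1 h2 hc (hB (q + 1) a) s) x
  obtain ⟨j, φ, hj⟩ := freeOf_stage_zero (c := c) (i := i) ((famCop Y).cech.obj (op ⦋q + 2⦌))
    (fun a s hs => stage_zero B Cov h1 h2 hc (hB (q + 2) a) s hs)
    ((cechChain Y).d (q + 2) (q + 1) ≫ x') ((Category.assoc _ _ _).trans ((congrArg (_ ≫ ·) hx').trans hx))
  obtain ⟨y, hy⟩ := hD j (x' ≫ (D.map φ).hom) ((Category.assoc _ _ _).symm.trans hj)
  refine ⟨y ≫ (c.ι.app j).hom, ?_⟩
  refine (Category.assoc _ _ _).symm.trans ((congrArg (· ≫ (c.ι.app j).hom) hy).trans ?_)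
  refine (Category.assoc _ _ _).trans (Eq.trans ?_ hx')
  exact congrArg (x' ≫ ·) (congrArg (fun m => m.hom) (c.w φ))

omit [IsFiltered I] in
/-- The main theorem. -/
theorem preservesColimitsOfShape_cohomology [IsFiltered I]
    (hinj : ∀ (Q : Sheaf J AddCommGrpCat.{u}), Injective Q → ∀ (V : C) (κ : Type u) (Y : κ → Over V),
      Cov V κ Y → ∀ q, HomExact (cechChain Y) Q.obj q)
    {U : C} (hU : U ∈ B) (p : ℕ) :
    PreservesColimitsOfShape I ((Abelian.extFunctor.{u} p).obj (op (CohCx.freeSheaf J U))) := by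
  refine FiltExtLib.preservesColimitsOfShape_ext (FiltExtLib.extComm_of_acyclic
    (fun D t => ?_) (fun D i s hs => ?_) (fun q Q hQ => ?_) p)
  · obtain ⟨i, r, hr⟩ := stage_lift B Cov h1 h2 (colimit.isColimit D) hU (secEquiv U _ t)
    refine ⟨i, (secEquiv U _).symm r, (secEquiv U _).injective ?_⟩
    rw [secEquiv_comp, Equiv.apply_symm_apply]
    exact hr
  · obtain ⟨j, φ, hj⟩ := stage_zero B Cov h1 h2 (colimit.isColimit D) (i := i) hU
      (secEquiv U _ s - secEquiv U _ 0) (by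
        rw [map_sub, sub_eq_zero]
        refine (secEquiv_comp U _ s).symm.trans (Eq.trans ?_ (secEquiv_comp U _ 0))
        exact congrArg (secEquiv U _) (hs.trans zero_comp.symm))
    refine ⟨j, φ, (secEquiv U _).injective ?_⟩
    rw [map_sub, sub_eq_zero, ← secEquiv_comp, ← secEquiv_comp, zero_comp] at hj
    exact hj
  · exact subsingleton_HU_of_cech_collection B Cov (fun V κ Y h => (h1 V κ Y h).2) h2 U hU q
      (colimit Q) fun V κ Y h r => homExact_colim B Cov h1 h2 (colimit.isColimit Q) Y h r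
        fun i => hinj _ (hQ i) V κ Y h r

end Groth.Agent.SiteColimLib
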